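import Mathlib

/-! Numbers of elements of each order in `PGL₂(q)`, `q` odd: only what recognition by them needs. -/

set_option autoImplicit false
set_option maxHeartbeats 200000

namespace Cfsg.Agent.Lib.NsePGL94

/-- The number of elements of order `n`. -/
noncomputable def ordCount (G : Type*) [Group G] (n : ℕ) : ℕ := Nat.card {g : G // orderOf g = n}

section Generic

variable {G : Type*} [Group G] [Finite G]

theorem ordCount_one : ordCount G 1 = 1 := by
  rw [ordCount, Nat.card_eq_one_iff_unique]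
  exact ⟨⟨fun a b => Subtype.ext ((orderOf_eq_one_iff.1 a.2).trans (orderOf_eq_one_iff.1 b.2).symm)⟩,
    ⟨⟨1, orderOf_one⟩⟩⟩

theorem even_ordCount {n : ℕ} (h1 : n ≠ 1) (h2 : n ≠ 2) : Even (ordCount G n) := by
  classical
  have := Fintype.ofFinite G
  rw [ordCount, Nat.card_eq_fintype_card, ← ZMod.natCast_eq_zero_iff_even, Fintype.card,
    Finset.card_eq_sum_ones]
  push_cast
  refine Finset.sum_involution (fun x _ => ⟨x.1⁻¹, by rw [orderOf_inv, x.2]⟩) (fun x _ => by decide)
    (fun x _ _ h => ?_) (fun x _ => Finset.mem_univ _) (fun x _ => Subtype.ext (inv_inv _))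
  have h' : x.1⁻¹ = x.1 := congrArg Subtype.val h
  have hd : n ∣ 2 := by
    rw [← x.2]
    exact orderOf_dvd_of_pow_eq_one (by rw [pow_two]; nth_rw 1 [← h']; exact inv_mul_cancel _)
  rcases (Nat.dvd_prime Nat.prime_two).1 hd with rfl | rfl
  · exact h1 rfl
  · exact h2 rfl

theorem dvd_ordCount_of_free {T : Subgroup G} {n : ℕ}
    (h : ∀ x : G, orderOf x = n → ∀ t ∈ T, Commute t x → t = 1) :
    Nat.card T ∣ ordCount G n := by
  classical
  let i : MulAction T {g : G // orderOf g = n} :=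
    { smul := fun t x => ⟨t.1 * x.1 * t.1⁻¹, by
        rw [← MulAut.conj_apply, MulEquiv.orderOf_eq, x.2]⟩
      one_smul := fun x => Subtype.ext (show (1 : G) * x.1 * 1⁻¹ = x.1 by group)
      mul_smul := fun s t x => Subtype.ext (show (s.1 * t.1) * x.1 * (s.1 * t.1)⁻¹ =
        s.1 * (t.1 * x.1 * t.1⁻¹) * s.1⁻¹ by group) }
  have hstab : ∀ x : {g : G // orderOf g = n}, MulAction.stabilizer T x = ⊥ := by
    intro x
    rw [eq_bot_iff]
    intro t ht
    rw [Subgroup.mem_bot]
    refine Subtype.ext (h x.1 x.2 t.1 t.2 ?_)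
    have h' : t.1 * x.1 * t.1⁻¹ = x.1 := congrArg Subtype.val (MulAction.mem_stabilizer_iff.1 ht)
    exact mul_inv_eq_iff_eq_mul.1 h'
  unfold ordCount
  have : Fintype (MulAction.orbitRel.Quotient T {g : G // orderOf g = n}) := Fintype.ofFinite _
  rw [Nat.card_congr (MulAction.selfEquivSigmaOrbits T {g : G // orderOf g = n}), Nat.card_sigma]
  refine Finset.dvd_sum fun ω _ => dvd_of_eq ?_
  have := MulAction.index_stabilizer T ω.out
  rw [hstab, Subgroup.index_bot] at this
  rw [this, Nat.card_coe_set_eq]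

end Generic

section PGL

variable {F : Type*} [Field F]

local notation "GL2" => GL (Fin 2) F
local notation "PG" => GL (Fin 2) F ⧸ Subgroup.center (GL (Fin 2) F)

theorem mem_center_iff' {g : GL2} : g ∈ Subgroup.center GL2 ↔
    g 0 1 = 0 ∧ g 1 0 = 0 ∧ g 0 0 = g 1 1 := by
  rw [Matrix.GeneralLinearGroup.mem_center_iff_val_mem_range_scalar]
  constructor
  · rintro ⟨c, hc⟩
    simp [← hc]
  · rintro ⟨h1, h2, h3⟩
    refine ⟨g 0 0, ?_⟩
    ext i j
    fin_cases i <;> fin_cases j <;> simp [h1, h2, h3]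

theorem card_center [Finite F] : Nat.card (Subgroup.center GL2) = Nat.card F - 1 := by
  rw [Matrix.GeneralLinearGroup.center_eq_range_scalar, ← Nat.card_units]
  refine (Nat.card_congr (MonoidHom.ofInjective ?_).toEquiv).symm
  intro a b h
  have := congrArg (fun g : GL2 => g 0 0) h
  exact Units.ext (by simpa using this)

theorem card_lift [Finite F] (S : Set PG) :
    Nat.card {g : GL2 // QuotientGroup.mk g ∈ S} = (Nat.card F - 1) * Nat.card S := by
  rw [← card_center (F := F), ← Nat.card_prod]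
  exact Nat.card_congr (QuotientGroup.preimageMkEquivSubgroupProdSet (Subgroup.center GL2) S)

theorem det_entries (g : GL2) : g 0 0 * g 1 1 - g 0 1 * g 1 0 ≠ 0 := by
  rw [← Matrix.det_fin_two]
  exact Matrix.GeneralLinearGroup.det_ne_zero g

/-- The cone of nilpotent trace-zero matrices. -/
noncomputable def coneEquiv : {v : F × F × F // v.1 ^ 2 + v.2.1 * v.2.2 = 0} ≃ F × F := by
  classical exact
  { toFun := fun v => if v.1.2.1 = 0 then (v.1.2.2, 0) else (v.1.1, v.1.2.1)
    invFun := fun w => if h : w.2 = 0 then ⟨(0, 0, w.1), by simp⟩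
      else ⟨(w.1, w.2, -w.1 ^ 2 / w.2), by field_simp; ring⟩
    left_inv := by
      rintro ⟨⟨a, b, c⟩, h⟩
      simp only at h
      by_cases hb : b = 0
      · subst hb
        have ha : a = 0 := by simpa using h
        simp [ha]
      · simp only [hb, if_false, dif_neg, not_false_iff]
        refine Subtype.ext (Prod.ext rfl (Prod.ext rfl ?_))
        show -a ^ 2 / b = c
        rw [div_eq_iff hb]
        linear_combination -h
    right_inv := by
      rintro ⟨x, y⟩
      by_cases hy : y = 0 <;> simp [hy] }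

theorem card_cone [Finite F] :
    Nat.card {v : F × F × F // v.1 ^ 2 + v.2.1 * v.2.2 = 0} = Nat.card F ^ 2 := by
  rw [Nat.card_congr coneEquiv, Nat.card_prod, pow_two]



theorem orderOf_mk_eq_two_iff (h2 : (2 : F) ≠ 0) (g : GL2) :
    orderOf (g : PG) = 2 ↔ g 0 0 + g 1 1 = 0 := by
  have : Fact (Nat.Prime 2) := ⟨Nat.prime_two⟩
  rw [orderOf_eq_prime_iff, ← QuotientGroup.mk_pow, QuotientGroup.eq_one_iff, Ne,
    QuotientGroup.eq_one_iff, mem_center_iff', mem_center_iff', pow_two, Units.val_mul]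
  simp only [Matrix.mul_apply, Fin.sum_univ_two]
  constructor
  · rintro ⟨⟨e1, e2, e3⟩, hne⟩
    by_contra ht
    refine hne ⟨?_, ?_, ?_⟩
    · exact (mul_eq_zero.1 (show g 0 1 * (g 0 0 + g 1 1) = 0 by linear_combination e1)).resolve_right ht
    · exact (mul_eq_zero.1 (show g 1 0 * (g 0 0 + g 1 1) = 0 by linear_combination e2)).resolve_right ht
    · exact sub_eq_zero.1 ((mul_eq_zero.1
        (show (g 0 0 - g 1 1) * (g 0 0 + g 1 1) = 0 by linear_combination e3)).resolve_right ht)
  · intro ht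
    refine ⟨⟨by linear_combination g 0 1 * ht, by linear_combination g 1 0 * ht,
      by linear_combination (g 0 0 - g 1 1) * ht⟩, ?_⟩
    rintro ⟨e1, e2, e3⟩
    have h0 : g 0 0 = 0 := (mul_eq_zero.1
      (show (2 : F) * g 0 0 = 0 by linear_combination ht + e3)).resolve_left h2
    exact det_entries g (by rw [h0, e1]; ring)

theorem ordCount_two [Finite F] (h2 : (2 : F) ≠ 0) : ordCount PG 2 = Nat.card F ^ 2 := by
  classical
  have := Fintype.ofFinite F
  have hl := card_lift (F := F) {x : PG | orderOf x = 2}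
  let e : {g : GL2 // g 0 0 + g 1 1 = 0} ≃ {v : F × F × F // ¬ (v.1 ^ 2 + v.2.1 * v.2.2 = 0)} :=
    { toFun := fun g => ⟨(g.1 0 0, g.1 0 1, g.1 1 0), fun h => det_entries g.1 (by
        linear_combination g.1 0 0 * g.2 - h)⟩
      invFun := fun v => ⟨Matrix.GeneralLinearGroup.mkOfDetNeZero !![v.1.1, v.1.2.1; v.1.2.2, -v.1.1]
          (by rw [Matrix.det_fin_two_of]; intro h; exact v.2 (by linear_combination -h)),
        by simp [Matrix.GeneralLinearGroup.mkOfDetNeZero]⟩
      left_inv := by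
        rintro ⟨g, hg⟩
        refine Subtype.ext (Units.ext ?_)
        ext i j
        fin_cases i <;> fin_cases j <;>
          simp [Matrix.GeneralLinearGroup.mkOfDetNeZero, eq_neg_of_add_eq_zero_right hg]
      right_inv := by
        rintro ⟨⟨a, b, c⟩, hv⟩
        simp [Matrix.GeneralLinearGroup.mkOfDetNeZero] }
  have h1 : Nat.card {g : GL2 // (g : PG) ∈ {x : PG | orderOf x = 2}} =
      Nat.card {v : F × F × F // ¬ (v.1 ^ 2 + v.2.1 * v.2.2 = 0)} :=
    Nat.card_congr ((Equiv.subtypeEquivRight fun g => by simp [orderOf_mk_eq_two_iff h2]).trans e)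
  rw [h1] at hl
  have hc := Fintype.card_subtype_compl fun v : F × F × F => v.1 ^ 2 + v.2.1 * v.2.2 = 0
  rw [← Nat.card_eq_fintype_card, ← Nat.card_eq_fintype_card, ← Nat.card_eq_fintype_card,
    card_cone, Nat.card_prod, Nat.card_prod] at hc
  rw [hc] at hl
  have hq : 1 < Nat.card F := Finite.one_lt_card
  have key : Nat.card F * (Nat.card F * Nat.card F) - Nat.card F ^ 2 =
      (Nat.card F - 1) * Nat.card F ^ 2 := by
    rw [Nat.sub_mul, one_mul]; ring_nf
  rw [key] at hl
  exact (Nat.eq_of_mul_eq_mul_left (by omega) hl).symm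

variable {p : ℕ} [Fact p.Prime] [CharP F p]

theorem pow_eq_scalar_of_disc (h2 : (2 : F) ≠ 0) (g : GL2)
    (h : (g 0 0 - g 1 1) ^ 2 + 4 * (g 0 1 * g 1 0) = 0) : g ^ p ∈ Subgroup.center GL2 := by
  rw [Matrix.GeneralLinearGroup.mem_center_iff_val_mem_range_scalar]
  set l : F := (g 0 0 + g 1 1) / 2 with hl
  set N : Matrix (Fin 2) (Fin 2) F :=
    !![(g 0 0 - g 1 1) / 2, g 0 1; g 1 0, -((g 0 0 - g 1 1) / 2)] with hN
  have hsum : (g : Matrix (Fin 2) (Fin 2) F) = N + l • 1 := by
    ext i j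
    fin_cases i <;> fin_cases j <;> simp [hN, hl] <;> field_simp <;> ring
  have hsq : ((g 0 0 - g 1 1) / 2) ^ 2 + g 0 1 * g 1 0 = 0 := by
    field_simp
    linear_combination h
  have hNN : N ^ 2 = 0 := by
    rw [pow_two, hN]
    generalize (g 0 0 - g 1 1) / 2 = x at hsq
    ext i j
    fin_cases i <;> fin_cases j <;>
      simp [Matrix.mul_apply, Fin.sum_univ_two] <;>
        first | linear_combination hsq | ring
  refine ⟨l ^ p, ?_⟩
  rw [Units.val_pow_eq_pow_val, hsum,
    add_pow_char_of_commute p (by simp [Commute, SemiconjBy]),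
    pow_eq_zero_of_le (Fact.out : p.Prime).two_le hNN, zero_add, _root_.smul_pow, one_pow]
  ext i j
  fin_cases i <;> fin_cases j <;> simp

variable [Finite F]

theorem disc_of_pow_mem_center (g : GL2) (h : g ^ p ∈ Subgroup.center GL2) :
    (g 0 0 - g 1 1) ^ 2 + 4 * (g 0 1 * g 1 0) = 0 := by
  rw [Matrix.GeneralLinearGroup.mem_center_iff_val_mem_range_scalar] at h
  obtain ⟨c, hc⟩ := h
  obtain ⟨l, rfl⟩ := (Finite.injective_iff_surjective.1 (frobenius_inj F p)) c
  rw [frobenius_def, Units.val_pow_eq_pow_val] at hc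
  set N : Matrix (Fin 2) (Fin 2) F := (g : Matrix (Fin 2) (Fin 2) F) - l • 1 with hN
  have hp0 : N ^ p = 0 := by
    rw [hN, sub_pow_char_of_commute p (by simp [Commute, SemiconjBy]), ← hc, _root_.smul_pow, one_pow,
      sub_eq_zero]
    ext i j
    fin_cases i <;> fin_cases j <;> simp
  have hnil : IsNilpotent N := ⟨p, hp0⟩
  have htr := (Matrix.isNilpotent_trace_of_isNilpotent hnil).eq_zero
  have hdet : N.det = 0 :=
    eq_zero_of_pow_eq_zero (n := p) (by rw [← Matrix.det_pow, hp0, Matrix.det_zero])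
  rw [Matrix.trace_fin_two] at htr
  rw [Matrix.det_fin_two] at hdet
  simp [hN] at htr hdet
  linear_combination (g 0 0 + g 1 1 - 2 * l) * htr - 4 * hdet

theorem orderOf_mk_eq_char_iff (h2 : (2 : F) ≠ 0) (g : GL2) :
    orderOf (g : PG) = p ↔ ¬ (g 0 1 = 0 ∧ g 1 0 = 0 ∧ g 0 0 = g 1 1) ∧
      (g 0 0 - g 1 1) ^ 2 + 4 * (g 0 1 * g 1 0) = 0 := by
  rw [orderOf_eq_prime_iff, ← QuotientGroup.mk_pow, QuotientGroup.eq_one_iff, Ne,
    QuotientGroup.eq_one_iff, mem_center_iff' (g := g), and_comm]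
  exact and_congr_right fun _ => ⟨disc_of_pow_mem_center g, pow_eq_scalar_of_disc h2 g⟩

theorem ordCount_char (h2 : (2 : F) ≠ 0) : ordCount PG p = Nat.card F ^ 2 - 1 := by
  classical
  have := Fintype.ofFinite F
  have hl := card_lift (F := F) {x : PG | orderOf x = p}
  let C := {v : {v : F × F × F // v.1 ^ 2 + v.2.1 * v.2.2 = 0} // ¬ v = ⟨0, by simp⟩}
  have e1 : ∀ x y : F, (x + y) / 2 + (x - y) / 2 = x := fun x y => by field_simp; ring
  have e2 : ∀ x y : F, (x + y) / 2 - (x - y) / 2 = y := fun x y => by field_simp; ring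
  have e3 : ∀ x y : F, (x + y + (x - y)) / 2 = x := fun x y => by field_simp; ring
  have e4 : ∀ x y : F, (x + y - (x - y)) / 2 = y := fun x y => by field_simp; ring
  let e : {g : GL2 // ¬ (g 0 1 = 0 ∧ g 1 0 = 0 ∧ g 0 0 = g 1 1) ∧
      (g 0 0 - g 1 1) ^ 2 + 4 * (g 0 1 * g 1 0) = 0} ≃ Fˣ × C :=
    { toFun := fun g => (Units.mk0 ((g.1 0 0 + g.1 1 1) / 2) (by
          intro h
          refine det_entries g.1 ?_
          rw [div_eq_zero_iff, or_iff_left h2] at h
          have h4 : (4 : F) ≠ 0 := by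
            rw [show (4 : F) = 2 * 2 by norm_num]; exact mul_ne_zero h2 h2
          refine (mul_eq_zero.1 (show (4 : F) * _ = 0 from ?_)).resolve_left h4
          linear_combination (g.1 0 0 + g.1 1 1) * h - g.2.2),
        ⟨⟨((g.1 0 0 - g.1 1 1) / 2, g.1 0 1, g.1 1 0), by
          show ((g.1 0 0 - g.1 1 1) / 2) ^ 2 + g.1 0 1 * g.1 1 0 = 0
          field_simp; linear_combination g.2.2⟩, fun h => g.2.1 (by
          have h' := congrArg Subtype.val h
          simp only [Prod.ext_iff, Prod.fst_zero, Prod.snd_zero, div_eq_zero_iff, or_iff_left h2,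
            sub_eq_zero] at h'
          exact ⟨h'.2.1, h'.2.2, h'.1⟩)⟩)
      invFun := fun w => ⟨Matrix.GeneralLinearGroup.mkOfDetNeZero
          !![(w.1 : F) + w.2.1.1.1, w.2.1.1.2.1; w.2.1.1.2.2, (w.1 : F) - w.2.1.1.1] (by
            rw [Matrix.det_fin_two_of]
            intro h
            have : (w.1 : F) ^ 2 = 0 := by linear_combination h + w.2.1.2
            exact w.1.ne_zero (eq_zero_of_pow_eq_zero this)), by
          simp only [Matrix.GeneralLinearGroup.mkOfDetNeZero]
          refine ⟨?_, ?_⟩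
          · simp
            intro h1 h3 h4
            refine w.2.2 (Subtype.ext (Prod.ext ?_ (Prod.ext h1 h3)))
            exact (mul_eq_zero.1 (show (2 : F) * w.2.1.1.1 = 0 by linear_combination h4)).resolve_left h2
          · simp
            linear_combination 4 * w.2.1.2⟩
      left_inv := by
        rintro ⟨g, hg⟩
        refine Subtype.ext (Units.ext ?_)
        ext i j
        fin_cases i <;> fin_cases j
        · exact e1 (g 0 0) (g 1 1)
        · rfl
        · rfl
        · exact e2 (g 0 0) (g 1 1)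
      right_inv := by
        rintro ⟨u, ⟨⟨⟨a, b, c⟩, hv⟩, hne⟩⟩
        exact Prod.ext (Units.ext (e3 (u : F) a))
          (Subtype.ext (Subtype.ext (Prod.ext (e4 (u : F) a) rfl))) }
  have h1 : Nat.card {g : GL2 // (g : PG) ∈ {x : PG | orderOf x = p}} = Nat.card (Fˣ × C) :=
    Nat.card_congr ((Equiv.subtypeEquivRight fun g => orderOf_mk_eq_char_iff h2 g).trans e)
  have hC : Nat.card C = Nat.card F ^ 2 - 1 := by
    rw [← card_cone, Nat.card_eq_fintype_card, Nat.card_eq_fintype_card, Fintype.card_subtype_compl,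
      Fintype.card_subtype_eq]
  rw [h1, Nat.card_prod, Nat.card_units, hC] at hl
  have hq : 1 < Nat.card F := Finite.one_lt_card
  exact (Nat.eq_of_mul_eq_mul_left (by omega) hl).symm

/-- The centraliser of an element of order `p` has exponent `p`. -/
theorem pow_char_eq_one_of_commute (h2 : (2 : F) ≠ 0) {u w : PG} (hu : orderOf u = p)
    (huw : Commute w u) : w ^ p = 1 := by
  induction u using QuotientGroup.induction_on with | H g => ?_
  induction w using QuotientGroup.induction_on with | H k => ?_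
  obtain ⟨hne, hd⟩ := (orderOf_mk_eq_char_iff h2 g).1 hu
  have hz : (k * g)⁻¹ * (g * k) ∈ Subgroup.center GL2 := QuotientGroup.eq.1 huw.eq
  rw [Matrix.GeneralLinearGroup.mem_center_iff_val_mem_range_scalar] at hz
  obtain ⟨c, hc⟩ := hz
  have heq : (g : Matrix (Fin 2) (Fin 2) F) * k = c • ((k : Matrix (Fin 2) (Fin 2) F) * g) := by
    have : g * k = k * g * ((k * g)⁻¹ * (g * k)) := by group
    generalize hz : (k * g)⁻¹ * (g * k) = z at this hc
    have h' := congrArg Units.val this
    simp only [Units.val_mul] at h'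
    rw [h', ← hc]
    ext i j
    fin_cases i <;> fin_cases j <;> simp [mul_comm]
  have hlam : g 0 0 + g 1 1 ≠ 0 := by
    intro h
    have h4 : (4 : F) ≠ 0 := by
      rw [show (4 : F) = 2 * 2 by norm_num]; exact mul_ne_zero h2 h2
    refine det_entries g ((mul_eq_zero.1 (show (4 : F) * _ = 0 from ?_)).resolve_left h4)
    linear_combination (g 0 0 + g 1 1) * h - hd
  have hc1 : c = 1 := by
    have h' := congrArg (fun X : Matrix (Fin 2) (Fin 2) F => (((k⁻¹ : GL2) : Matrix (Fin 2) (Fin 2) F) * X).trace) heq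
    simp only [mul_smul_comm, Matrix.trace_smul, ← mul_assoc, ← Units.val_mul, inv_mul_cancel,
      one_mul, smul_eq_mul] at h'
    rw [Units.val_mul, Matrix.trace_mul_comm, ← Units.val_mul, ← mul_assoc, mul_inv_cancel, one_mul,
      Matrix.trace_fin_two] at h'
    exact (mul_eq_zero.1 (show (c - 1) * (g 0 0 + g 1 1) = 0 by linear_combination -h')).resolve_right
      hlam |> sub_eq_zero.1
  rw [hc1, one_smul] at heq
  have e00 := congrFun (congrFun heq 0) 0
  have e01 := congrFun (congrFun heq 0) 1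
  have e10 := congrFun (congrFun heq 1) 0
  simp only [Matrix.mul_apply, Fin.sum_univ_two] at e00 e01 e10
  rw [← QuotientGroup.mk_pow, QuotientGroup.eq_one_iff]
  refine pow_eq_scalar_of_disc h2 k ?_
  by_cases hb : g 0 1 = 0
  · have had : g 0 0 = g 1 1 := by
      have : (g 0 0 - g 1 1) ^ 2 = 0 := by rw [hb] at hd; linear_combination hd
      exact sub_eq_zero.1 (eq_zero_of_pow_eq_zero this)
    have hcne : g 1 0 ≠ 0 := fun h => hne ⟨hb, h, had⟩
    have hkb : k 0 1 = 0 := (mul_eq_zero.1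
      (show g 1 0 * k 0 1 = 0 by linear_combination -e00 + k 1 0 * hb)).resolve_left hcne
    have hkd : k 0 0 - k 1 1 = 0 := (mul_eq_zero.1
      (show g 1 0 * (k 0 0 - k 1 1) = 0 by linear_combination e10 + k 1 0 * had)).resolve_left hcne
    rw [hkd, hkb]; ring
  · refine (mul_eq_zero.1 (show g 0 1 ^ 2 * _ = 0 from ?_)).resolve_left (pow_ne_zero 2 hb)
    linear_combination k 0 1 ^ 2 * hd + (4 * (k 0 1) * g 0 1) * e00 +
      (-(k 0 1 * (g 0 0 - g 1 1)) - g 0 1 * (k 0 0 - k 1 1)) * e01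

theorem dvd_ordCount_other (h2 : (2 : F) ≠ 0) {a n : ℕ} (hq : Nat.card F = p ^ a)
    (hcard : p ^ a ∣ Nat.card PG) (hn1 : n ≠ 1) (hnp : n ≠ p) : p ^ a ∣ ordCount PG n := by
  obtain ⟨T, hT⟩ := Sylow.exists_subgroup_card_pow_prime p hcard
  rw [← hT]
  refine dvd_ordCount_of_free fun x hx t ht htx => ?_
  by_contra ht1
  have hTp : IsPGroup p T := IsPGroup.of_card hT
  obtain ⟨j, hj⟩ := (IsPGroup.iff_orderOf.1 hTp) ⟨t, ht⟩
  rw [Subgroup.orderOf_mk] at hj
  cases j with
  | zero => exact ht1 (orderOf_eq_one_iff.1 (by simpa using hj))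
  | succ j =>
    have hu : orderOf (t ^ (p ^ j)) = p := by
      rw [orderOf_pow' t (pow_ne_zero j (Fact.out : p.Prime).ne_zero), hj,
        Nat.gcd_eq_right (pow_dvd_pow p (Nat.le_succ j)), pow_succ,
        Nat.mul_div_cancel_left _ (pow_pos (Fact.out : p.Prime).pos j)]
    have := orderOf_dvd_of_pow_eq_one (pow_char_eq_one_of_commute h2 hu (htx.pow_left _).symm)
    rw [hx] at this
    rcases (Nat.dvd_prime (Fact.out : p.Prime)).1 this with h | h
    · exact hn1 h
    · exact hnp h

/-- Every value of the counting function on `PGL₂(q)`. -/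
theorem ordCount_cases (h2 : (2 : F) ≠ 0) {a : ℕ} (hq : Nat.card F = p ^ a)
    (hcard : p ^ a ∣ Nat.card PG) (n : ℕ) :
    ordCount PG n = 1 ∨ ordCount PG n = Nat.card F ^ 2 ∨ ordCount PG n = Nat.card F ^ 2 - 1 ∨
      (Nat.card F ∣ ordCount PG n ∧ Even (ordCount PG n)) := by
  by_cases h1 : n = 1
  · subst h1; exact Or.inl ordCount_one
  by_cases hn2 : n = 2
  · subst hn2; exact Or.inr (Or.inl (ordCount_two h2))
  by_cases hp : n = p
  · subst hp; exact Or.inr (Or.inr (Or.inl (ordCount_char h2)))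
  exact Or.inr (Or.inr (Or.inr ⟨hq ▸ dvd_ordCount_other h2 hq hcard h1 hp, even_ordCount h1 hn2⟩))

end PGL

end Cfsg.Agent.Lib.NsePGL94
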