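import Mathlib
import Cfsg.Agent.Lib.OrderCount.Frobenius
import Cfsg.Agent.Lib.NsePGL94.PGLFacts

/-! What the order and the set of multiplicities of `PGL₂(q)` say about element orders. -/

set_option autoImplicit false

namespace Cfsg.Agent.Lib.NsePGL94

universe u

variable {G : Type u} [Group G] [Finite G]

theorem ordCount_pos_of_dvd {r : ℕ} (hr : r.Prime) (h : r ∣ Nat.card G) : 0 < ordCount G r := by
  have : Fact r.Prime := ⟨hr⟩
  obtain ⟨x, hx⟩ := exists_prime_orderOf_dvd_card' r h
  have : Nonempty {g : G // orderOf g = r} := ⟨⟨x, hx⟩⟩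
  exact Nat.card_pos

theorem card_filter_orderOf [Fintype G] [DecidableEq G] (n : ℕ) :
    (Finset.univ.filter fun g : G => orderOf g = n).card = ordCount G n := by
  rw [← Fintype.card_subtype, ordCount, Nat.card_eq_fintype_card]

theorem card_pow_prime_eq_one {r : ℕ} (hr : r.Prime) :
    Nat.card {g : G // g ^ r = 1} = 1 + ordCount G r := by
  classical
  have := Fintype.ofFinite G
  rw [Nat.card_eq_fintype_card, Fintype.card_subtype, ← card_filter_orderOf r,
    ← ordCount_one (G := G), ← card_filter_orderOf 1, ← Finset.card_union_of_disjoint]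
  · congr 1
    ext g
    simp only [Finset.mem_filter, Finset.mem_univ, true_and, Finset.mem_union,
      ← orderOf_dvd_iff_pow_eq_one, Nat.dvd_prime hr]
  · rw [Finset.disjoint_filter]
    intro g _ h1 h2
    exact hr.ne_one (h2.symm.trans h1)

theorem dvd_ordCount_add_one {r : ℕ} (hr : r.Prime) (h : r ∣ Nat.card G) :
    r ∣ 1 + ordCount G r := by
  rw [← card_pow_prime_eq_one hr]
  exact OrderCount.dvd_card_pow_eq_one h

variable {p a q : ℕ}

theorem counts (hp : p.Prime) (hp2 : p ≠ 2) (hq : q = p ^ a) (hq3 : 3 < q)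
    (hG : Nat.card G = q * (q ^ 2 - 1))
    (hval : ∀ n, 0 < ordCount G n → ordCount G n = 1 ∨ ordCount G n = q ^ 2 ∨
      ordCount G n = q ^ 2 - 1 ∨ (q ∣ ordCount G n ∧ Even (ordCount G n)))
    (hsq : ∃ n, ordCount G n = q ^ 2) :
    ordCount G 2 = q ^ 2 ∧ ordCount G p = q ^ 2 - 1 ∧
      ∀ g : G, p ∣ orderOf g → orderOf g = p := by
  classical
  have := Fintype.ofFinite G
  have ha : a ≠ 0 := by rintro rfl; simp at hq; omega
  have hpq : p ∣ q := hq ▸ dvd_pow_self p ha
  have hpG : p ∣ Nat.card G := hG ▸ hpq.mul_right _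
  have hqodd : Odd q := hq ▸ (hp.odd_of_ne_two hp2).pow
  have hsqodd : Odd (q ^ 2) := hqodd.pow
  have heven : Even (q ^ 2 - 1) := Nat.Odd.sub_odd hsqodd odd_one
  have h2G : 2 ∣ Nat.card G := hG ▸ heven.two_dvd.mul_left _
  have hbig : 15 ≤ q ^ 2 - 1 := by
    have := Nat.pow_le_pow_left (show 4 ≤ q by omega) 2
    omega
  have hmp : ordCount G p = q ^ 2 - 1 := by
    have h1 := dvd_ordCount_add_one hp hpG
    rcases hval p (ordCount_pos_of_dvd hp hpG) with h | h | h | ⟨h, -⟩
    · rw [h] at h1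
      exact absurd ((Nat.prime_dvd_prime_iff_eq hp Nat.prime_two).1 h1) hp2
    · rw [h] at h1
      exact absurd ((Nat.dvd_add_left (hpq.trans (dvd_pow_self q two_ne_zero))).1 h1) hp.not_dvd_one
    · exact h
    · exact absurd ((Nat.dvd_add_left (hpq.trans h)).1 h1) hp.not_dvd_one
  have hm2 : ordCount G 2 = q ^ 2 := by
    have h1 : 2 ∣ 1 + ordCount G 2 := dvd_ordCount_add_one Nat.prime_two h2G
    rcases hval 2 (ordCount_pos_of_dvd Nat.prime_two h2G) with h | h | h | ⟨-, h⟩
    · exfalso
      obtain ⟨n, hn⟩ := hsq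
      by_cases hn1 : n = 1
      · rw [hn1, ordCount_one] at hn
        omega
      by_cases hn2 : n = 2
      · rw [hn2, h] at hn
        omega
      have := even_ordCount (G := G) hn1 hn2
      rw [hn] at this
      exact Nat.not_even_iff_odd.2 hsqodd this
    · exact h
    · obtain ⟨k, hk⟩ := heven
      omega
    · obtain ⟨k, hk⟩ := h
      omega
  refine ⟨hm2, hmp, ?_⟩
  -- the remaining elements
  have c1 : (Finset.univ.filter fun g : G => orderOf g = 1).card = 1 :=
    (card_filter_orderOf 1).trans ordCount_one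
  set E : Finset G := Finset.univ.filter fun g => orderOf g ≠ 1 ∧ orderOf g ≠ 2 ∧ orderOf g ≠ p
    with hE
  set D : Finset G := Finset.univ.filter fun g : G => g ^ (q ^ 2 - 1) = 1 with hD
  have hEcard : E.card + (1 + q ^ 2 + (q ^ 2 - 1)) = q * (q ^ 2 - 1) := by
    have hc := Finset.card_filter_add_card_filter_not (s := (Finset.univ : Finset G))
      (fun g : G => orderOf g ≠ 1 ∧ orderOf g ≠ 2 ∧ orderOf g ≠ p)
    rw [Finset.card_univ, ← Nat.card_eq_fintype_card, hG, ← hE] at hc
    have hr : (Finset.univ.filter fun g : G => ¬ (orderOf g ≠ 1 ∧ orderOf g ≠ 2 ∧ orderOf g ≠ p)).card =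
        1 + q ^ 2 + (q ^ 2 - 1) := by
      rw [← hmp, ← hm2, ← card_filter_orderOf 2, ← card_filter_orderOf p]
      conv_rhs => arg 1; arg 1; rw [← c1]
      rw [← Finset.card_union_of_disjoint, ← Finset.card_union_of_disjoint]
      · congr 1
        ext g
        simp only [Finset.mem_filter, Finset.mem_univ, true_and, Finset.mem_union]
        tauto
      · rw [← Finset.filter_or, Finset.disjoint_filter]
        intro g _ h1 h2
        rcases h1 with h1 | h1 <;> rw [h1] at h2
        · exact hp.ne_one h2.symm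
        · exact hp2 h2.symm
      · rw [Finset.disjoint_filter]
        intro g _ h1 h2
        omega
    rw [hr] at hc
    exact hc
  have hfib : ∀ n, n ∈ E.image orderOf →
      (E.filter fun g => orderOf g = n).card = ordCount G n ∧ n ≠ 1 ∧ n ≠ 2 ∧ n ≠ p ∧
        0 < ordCount G n := by
    intro n hn
    obtain ⟨g, hg, rfl⟩ := Finset.mem_image.1 hn
    simp only [hE, Finset.mem_filter, Finset.mem_univ, true_and] at hg
    refine ⟨?_, hg.1, hg.2.1, hg.2.2, ?_⟩
    · rw [← card_filter_orderOf]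
      congr 1
      ext x
      simp only [hE, Finset.mem_filter, Finset.mem_univ, true_and]
      exact ⟨And.right, fun h => ⟨h ▸ hg, h⟩⟩
    · have : Nonempty {x : G // orderOf x = orderOf g} := ⟨⟨g, rfl⟩⟩
      exact Nat.card_pos
  have hEsum : E.card = ∑ n ∈ E.image orderOf, ordCount G n := by
    rw [Finset.card_eq_sum_card_image orderOf E]
    exact Finset.sum_congr rfl fun n hn => (hfib n hn).1
  have hother : ∀ n ∈ E.image orderOf, q ∣ ordCount G n := by
    by_contra hne
    push Not at hne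
    obtain ⟨n₀, hn₀, hq₀⟩ := hne
    set A := (E.image orderOf).filter fun n => ¬ q ∣ ordCount G n
    have hA : ∀ n ∈ A, ordCount G n = q ^ 2 - 1 := by
      intro n hn
      obtain ⟨hn, hnq⟩ := Finset.mem_filter.1 hn
      obtain ⟨-, h1, h2, -, hpos⟩ := hfib n hn
      have hev := even_ordCount (G := G) h1 h2
      rcases hval n hpos with h | h | h | ⟨h, -⟩
      · rw [h] at hev; exact absurd hev (by decide)
      · rw [h] at hev; exact absurd hev (Nat.not_even_iff_odd.2 hsqodd)
      · exact h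
      · exact absurd h hnq
    have hsplit := Finset.sum_filter_add_sum_filter_not (E.image orderOf)
      (fun n => ¬ q ∣ ordCount G n) (ordCount G)
    rw [← hEsum, Finset.sum_congr rfl hA, Finset.sum_const, smul_eq_mul] at hsplit
    have hB : q ∣ ∑ x ∈ (E.image orderOf).filter (fun n => ¬¬ q ∣ ordCount G n), ordCount G x :=
      Finset.dvd_sum fun n hn => not_not.1 (Finset.mem_filter.1 hn).2
    have hqsq : q ∣ q ^ 2 := dvd_pow_self q two_ne_zero
    have hdvdE : q ∣ E.card := by
      have h' : q ∣ E.card + 2 * q ^ 2 := ⟨q ^ 2 - 1, by omega⟩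
      exact (Nat.dvd_add_left (hqsq.mul_left 2)).1 h'
    have hAq : q ∣ A.card * (q ^ 2 - 1) := (Nat.dvd_add_left hB).1 (hsplit ▸ hdvdE)
    have hcop : Nat.Coprime q (q ^ 2 - 1) := by
      refine Nat.Coprime.coprime_dvd_left hqsq ?_
      exact (Nat.coprime_self_sub_right (by omega)).2 (Nat.coprime_one_right _)
    have hAle : q ≤ A.card := Nat.le_of_dvd
      (Finset.card_pos.2 ⟨n₀, Finset.mem_filter.2 ⟨hn₀, hq₀⟩⟩) (hcop.dvd_of_dvd_mul_right hAq)
    have := Nat.mul_le_mul_right (q ^ 2 - 1) hAle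
    omega
  -- Frobenius
  have hEqdiv : ∀ n ∈ (E.filter fun g => g ∈ D).image orderOf,
      ((E.filter fun g => g ∈ D).filter fun g => orderOf g = n).card = ordCount G n := by
    intro n hn
    obtain ⟨g, hg, rfl⟩ := Finset.mem_image.1 hn
    obtain ⟨hgE, hgD⟩ := Finset.mem_filter.1 hg
    rw [← (hfib _ (Finset.mem_image_of_mem _ hgE)).1]
    congr 1
    ext x
    simp only [Finset.mem_filter]
    refine ⟨fun h => ⟨h.1.1, h.2⟩, fun h => ⟨⟨h.1, ?_⟩, h.2⟩⟩
    simp only [hD, Finset.mem_filter, Finset.mem_univ, true_and] at hgD ⊢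
    rw [← orderOf_dvd_iff_pow_eq_one] at hgD ⊢
    rwa [h.2]
  set B := (E.filter fun g => g ∈ D).card with hBdef
  have hqB : q ∣ B := by
    rw [hBdef, Finset.card_eq_sum_card_image orderOf]
    refine Finset.dvd_sum fun n hn => ?_
    rw [hEqdiv n hn]
    obtain ⟨g, hg, rfl⟩ := Finset.mem_image.1 hn
    exact hother _ (Finset.mem_image_of_mem _ (Finset.mem_filter.1 hg).1)
  have hpd : ¬ p ∣ q ^ 2 - 1 := by
    intro h
    exact hp.not_dvd_one ((Nat.dvd_sub_iff_right (by omega) (hpq.trans (dvd_pow_self q two_ne_zero))).1 h)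
  have hDcard : D.card = 1 + q ^ 2 + B := by
    have hc := Finset.card_filter_add_card_filter_not (s := D)
      (fun g : G => orderOf g = 1 ∨ orderOf g = 2)
    have h1 : (D.filter fun g : G => orderOf g = 1 ∨ orderOf g = 2).card = 1 + q ^ 2 := by
      rw [← hm2, ← card_filter_orderOf 2]
      conv_rhs => arg 1; rw [← c1]
      rw [← Finset.card_union_of_disjoint]
      · congr 1
        ext g
        simp only [hD, Finset.mem_filter, Finset.mem_univ, true_and, Finset.mem_union,
          ← orderOf_dvd_iff_pow_eq_one]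
        refine ⟨And.right, fun h => ⟨?_, h⟩⟩
        rcases h with h | h <;> rw [h]
        · exact one_dvd _
        · exact heven.two_dvd
      · rw [Finset.disjoint_filter]
        intro g _ h1 h2
        omega
    have h2 : D.filter (fun g : G => ¬ (orderOf g = 1 ∨ orderOf g = 2)) = E.filter fun g => g ∈ D := by
      ext g
      simp only [hE, hD, Finset.mem_filter, Finset.mem_univ, true_and, not_or]
      refine ⟨fun h => ⟨⟨h.2.1, h.2.2, fun hgp => hpd ?_⟩, h.1⟩, fun h => ⟨h.2, h.1.1, h.1.2.1⟩⟩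
      rw [← hgp]
      exact orderOf_dvd_of_pow_eq_one h.1
    rw [h1, h2] at hc
    exact hc.symm
  have hfrob : q ^ 2 - 1 ∣ D.card := by
    have h := OrderCount.dvd_card_pow_eq_one (G := G) (n := q ^ 2 - 1) (hG ▸ dvd_mul_left _ _)
    rwa [Nat.card_eq_fintype_card, Fintype.card_subtype] at h
  have hge : E.card ≤ B := by
    rw [hDcard, show 1 + q ^ 2 + B = (q ^ 2 - 1) + (B + 2) by omega,
      Nat.dvd_add_right dvd_rfl] at hfrob
    obtain ⟨k, hk⟩ := hfrob
    obtain ⟨j, hj⟩ := hqB
    have hk2 : q ∣ k + 2 := by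
      have : ((k + 2 : ℕ) : ℤ) = (q : ℤ) * (k * q - j) := by
        have hk' : ((B : ℤ) + 2) = ((q : ℤ) ^ 2 - 1) * k := by
          have := congrArg (fun x : ℕ => (x : ℤ)) hk
          push_cast [Nat.cast_sub (show 1 ≤ q ^ 2 by omega)] at this
          exact this
        rw [hj] at hk'
        push_cast at hk' ⊢
        linear_combination hk'
      exact Int.natCast_dvd_natCast.1 ⟨_, this⟩
    have hkq : q ≤ k + 2 := Nat.le_of_dvd (by omega) hk2
    have h' := Nat.mul_le_mul_left (q ^ 2 - 1) hkq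
    rw [mul_add, ← hk] at h'
    rw [mul_comm (q ^ 2 - 1) q, mul_comm (q ^ 2 - 1) 2] at h'
    omega
  have hall : E.filter (fun g => g ∈ D) = E :=
    Finset.eq_of_subset_of_card_le (Finset.filter_subset _ _) hge
  intro g hg
  by_contra hne
  have hgE : g ∈ E := by
    simp only [hE, Finset.mem_filter, Finset.mem_univ, true_and]
    refine ⟨fun h => ?_, fun h => ?_, hne⟩
    · rw [h] at hg; exact hp.not_dvd_one hg
    · rw [h] at hg; exact hp2 ((Nat.prime_dvd_prime_iff_eq hp Nat.prime_two).1 hg)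
  rw [← hall] at hgE
  have := (Finset.mem_filter.1 hgE).2
  simp only [hD, Finset.mem_filter, Finset.mem_univ, true_and] at this
  exact hpd (hg.trans (orderOf_dvd_of_pow_eq_one this))

end Cfsg.Agent.Lib.NsePGL94
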