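import Mathlib
import Cfsg.Agent.Lib.Perm.Zassenhaus
import Cfsg.Agent.Lib.Perm.AffineCoords
import Cfsg.Agent.Lib.Perm.ZassenhausPGL
import Cfsg.Agent.Lib.NsePGL94.PGLFacts

/-! A group of order `q(q² - 1)` with `q²` involutions and `q² - 1` elements of order divisible by
`p`, all of order `p`, is `PGL₂(q)`. -/

set_option autoImplicit false

namespace Cfsg.Agent.Lib.NsePGL94

open MulAction
open Cfsg.Agent.Lib.Perm.Zassenhaus Cfsg.Agent.Lib.Perm.AffineCoords

variable {G : Type*} [Group G] [Finite G] {p a q : ℕ}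

/-- The hypotheses obtained from the counting. -/
structure Data (G : Type*) [Group G] (p a q : ℕ) : Prop where
  prime : p.Prime
  ne_two : p ≠ 2
  q_eq : q = p ^ a
  q_gt : 3 < q
  card_eq : Nat.card G = q * (q ^ 2 - 1)
  two : ordCount G 2 = q ^ 2
  char : ordCount G p = q ^ 2 - 1
  of_dvd : ∀ g : G, p ∣ orderOf g → orderOf g = p

namespace Data

theorem a_ne_zero (D : Data G p a q) : a ≠ 0 := by
  rintro rfl
  have := D.q_eq
  have := D.q_gt
  simp at *
  omega

theorem pow_eq_one_of_commute (D : Data G p a q) {u w : G} (hu : orderOf u = p) (h : Commute w u) :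
    w ^ p = 1 := by
  rw [← orderOf_dvd_iff_pow_eq_one]
  by_cases hw : p ∣ orderOf w
  · rw [D.of_dvd w hw]
  have hcop : Nat.Coprime (orderOf w) (orderOf u) :=
    (hu.symm ▸ (D.prime.coprime_iff_not_dvd.2 hw).symm)
  have h1 := h.orderOf_mul_eq_mul_orderOf_of_coprime hcop
  have h2 := D.of_dvd (w * u) (by rw [h1, hu]; exact dvd_mul_left _ _)
  rw [h1, hu] at h2
  rw [Nat.eq_of_mul_eq_mul_right D.prime.pos (h2.trans (one_mul p).symm)]
  exact one_dvd _

theorem mem_centralizer_iff' {u w : G} : w ∈ Subgroup.centralizer {u} ↔ Commute w u := by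
  rw [Subgroup.mem_centralizer_iff]
  simp [commute_iff_eq, eq_comm]

theorem card_centralizer_le (D : Data G p a q) {u : G} (hu : orderOf u = p) :
    Nat.card (Subgroup.centralizer ({u} : Set G)) ≤ q := by
  have := Fact.mk D.prime
  have hC : IsPGroup p (Subgroup.centralizer ({u} : Set G)) := fun w =>
    ⟨1, Subtype.ext (by simpa using D.pow_eq_one_of_commute hu (mem_centralizer_iff'.1 w.2))⟩
  obtain ⟨k, hk⟩ := IsPGroup.iff_card.1 hC
  have hd := Subgroup.card_subgroup_dvd_card (Subgroup.centralizer ({u} : Set G))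
  rw [hk, D.card_eq, D.q_eq] at hd
  have hcop : Nat.Coprime (p ^ k) ((p ^ a) ^ 2 - 1) := by
    refine Nat.Coprime.pow_left k (D.prime.coprime_iff_not_dvd.2 fun h => D.prime.not_dvd_one ?_)
    exact (Nat.dvd_sub_iff_right (Nat.one_le_pow _ _ (pow_pos D.prime.pos a))
      ((dvd_pow_self p D.a_ne_zero).trans (dvd_pow_self _ two_ne_zero))).1 h
  rw [hk, D.q_eq]
  exact Nat.le_of_dvd (pow_pos D.prime.pos a) (hcop.dvd_of_dvd_mul_right hd)

theorem class_facts (D : Data G p a q) {u : G} (hu : orderOf u = p) :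
    Nat.card (Subgroup.centralizer ({u} : Set G)) = q ∧
      ∀ v : G, orderOf v = p → ∃ g : G, g * u * g⁻¹ = v := by
  set C := Subgroup.centralizer ({u} : Set G)
  let f : G ⧸ C → {x : G // orderOf x = p} := fun x =>
    ⟨x.out * u * x.out⁻¹, by rw [← MulAut.conj_apply, MulEquiv.orderOf_eq, hu]⟩
  have hf : Function.Injective f := by
    intro x y h
    have h' : x.out * u * x.out⁻¹ = y.out * u * y.out⁻¹ := congrArg Subtype.val h
    rw [← QuotientGroup.out_eq' x, ← QuotientGroup.out_eq' y, QuotientGroup.eq, mem_centralizer_iff',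
      commute_iff_eq]
    calc x.out⁻¹ * y.out * u = x.out⁻¹ * (y.out * u * y.out⁻¹) * y.out := by group
      _ = x.out⁻¹ * (x.out * u * x.out⁻¹) * y.out := by rw [h']
      _ = u * (x.out⁻¹ * y.out) := by group
  have hle : C.index ≤ q ^ 2 - 1 := D.char ▸ Nat.card_le_card_of_injective f hf
  have hmul := C.card_mul_index
  rw [D.card_eq] at hmul
  have hCle := D.card_centralizer_le hu
  have hq0 : 0 < q ^ 2 - 1 := by
    have := Nat.pow_le_pow_left D.q_gt.le 2
    omega
  have hCeq : Nat.card C = q := by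
    refine le_antisymm hCle (Nat.le_of_mul_le_mul_right ?_ hq0)
    exact hmul ▸ Nat.mul_le_mul_left _ hle
  refine ⟨hCeq, fun v hv => ?_⟩
  have hidx : C.index = q ^ 2 - 1 := by
    rw [hCeq] at hmul
    exact Nat.eq_of_mul_eq_mul_left (by linarith [D.q_gt]) hmul
  obtain ⟨x, hx⟩ := (Nat.bijective_iff_injective_and_card f).2 ⟨hf, hidx.trans D.char.symm⟩ |>.2 ⟨v, hv⟩
  exact ⟨x.out, congrArg Subtype.val hx⟩

theorem factorization_eq (D : Data G p a q) : (Nat.card G).factorization p = a := by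
  have h1 : q ^ 2 - 1 ≠ 0 := by
    have := Nat.pow_le_pow_left D.q_gt.le 2
    omega
  have hnd : ¬ p ∣ q ^ 2 - 1 := by
    intro h
    refine D.prime.not_dvd_one ((Nat.dvd_sub_iff_right (by omega) ?_).1 h)
    rw [D.q_eq]
    exact (dvd_pow_self p D.a_ne_zero).trans (dvd_pow_self _ two_ne_zero)
  rw [D.card_eq, Nat.factorization_mul (by have := D.q_gt; omega) h1, Finsupp.add_apply,
    Nat.factorization_eq_zero_of_not_dvd hnd, D.q_eq, D.prime.factorization_pow,
    Finsupp.single_eq_same, add_zero]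

theorem card_sylow' (D : Data G p a q) [Fact p.Prime] (S : Sylow p G) : Nat.card S = q := by
  rw [S.card_eq_multiplicity, D.factorization_eq, D.q_eq]

theorem orderOf_of_mem (D : Data G p a q) [Fact p.Prime] (S : Sylow p G) {u : G}
    (hu : u ∈ (S : Subgroup G)) (h1 : u ≠ 1) : orderOf u = p := by
  refine D.of_dvd u ?_
  obtain ⟨k, hk⟩ := (IsPGroup.iff_orderOf.1 S.isPGroup') ⟨u, hu⟩
  rw [Subgroup.orderOf_mk] at hk
  rw [hk]
  refine dvd_pow_self p fun h => h1 (orderOf_eq_one_iff.1 ?_)
  rw [hk, h, pow_zero]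

theorem sylow_comm (D : Data G p a q) [Fact p.Prime] (S : Sylow p G) :
    ∀ x ∈ (S : Subgroup G), ∀ y ∈ (S : Subgroup G), x * y = y * x := by
  have : Nontrivial (S : Subgroup G) := Finite.one_lt_card_iff_nontrivial.1 (by
    rw [D.card_sylow' S]; linarith [D.q_gt])
  have := S.isPGroup'.center_nontrivial
  obtain ⟨z, hz⟩ := exists_ne (1 : Subgroup.center (S : Subgroup G))
  set z' : G := ((z : (S : Subgroup G)) : G) with hz'
  have hzS : z' ∈ (S : Subgroup G) := (z : (S : Subgroup G)).2
  have hz1 : z' ≠ 1 := fun h => hz (Subtype.ext (Subtype.ext h))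
  have hzp := D.orderOf_of_mem S hzS hz1
  have hSC : (S : Subgroup G) = Subgroup.centralizer ({z'} : Set G) := by
    refine Subgroup.eq_of_le_of_card_ge (fun x hx => mem_centralizer_iff'.2 ?_) ?_
    · exact congrArg Subtype.val (Subgroup.mem_center_iff.1 z.2 ⟨x, hx⟩)
    · rw [(D.class_facts hzp).1]; exact (D.card_sylow' S).ge
  have hzne : z'⁻¹ ≠ z' := by
    intro h
    have h' : orderOf z' ∣ 2 :=
      orderOf_dvd_of_pow_eq_one (by rw [pow_two]; nth_rw 1 [← h]; exact inv_mul_cancel _)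
    rw [hzp] at h'
    exact D.ne_two ((Nat.prime_dvd_prime_iff_eq D.prime Nat.prime_two).1 h')
  obtain ⟨g, hg⟩ := (D.class_facts hzp).2 z'⁻¹ (by rw [orderOf_inv, hzp])
  have hgg : g * g ∈ Subgroup.centralizer ({z'} : Set G) := by
    rw [mem_centralizer_iff', commute_iff_eq]
    have h2 : g * g * z' * (g * g)⁻¹ = z' := by
      calc g * g * z' * (g * g)⁻¹ = g * (g * z' * g⁻¹) * g⁻¹ := by group
        _ = g * z'⁻¹ * g⁻¹ := by rw [hg]
        _ = (g * z' * g⁻¹)⁻¹ := by group
        _ = z' := by rw [hg, inv_inv]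
    exact mul_inv_eq_iff_eq_mul.1 h2
  have heven : Even (orderOf g) := by
    rcases Nat.even_or_odd (orderOf g) with h | ⟨k, hk⟩
    · exact h
    · exfalso
      have hgC : g ∈ Subgroup.centralizer ({z'} : Set G) := by
        have : (g * g) ^ (k + 1) = g := by
          rw [← pow_two, ← pow_mul, show 2 * (k + 1) = orderOf g + 1 by omega, pow_add,
            pow_orderOf_eq_one, one_mul, pow_one]
        exact this ▸ Subgroup.pow_mem _ hgg _
      refine hzne ?_
      rw [← hg, (mem_centralizer_iff'.1 hgC).eq, mul_inv_cancel_right]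
  set t := g ^ (orderOf g / 2) with ht
  have ht2 : orderOf t = 2 := orderOf_pow_orderOf_div (orderOf_pos g).ne' heven.two_dvd
  have htt : t * t = 1 := mul_self_of_orderOf ht2
  have htinv : t⁻¹ = t := inv_eq_of_mul_eq_one_left htt
  have hnorm : ∀ x ∈ (S : Subgroup G), t * x * t⁻¹ ∈ (S : Subgroup G) := by
    intro x hx
    have hN : g ∈ Subgroup.normalizer ((S : Subgroup G) : Set G) := by
      rw [Subgroup.mem_normalizer_iff]
      intro y
      rw [hSC, mem_centralizer_iff', mem_centralizer_iff',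
        show Commute y z' ↔ Commute (g * y * g⁻¹) (g * z' * g⁻¹) from
          ⟨fun h => h.map (MulAut.conj g).toMonoidHom, fun h' => by
            simpa [mul_assoc] using Commute.map h' (MulAut.conj g⁻¹).toMonoidHom⟩, hg, Commute.inv_right_iff]
    exact (Subgroup.mem_normalizer_iff.1 (Subgroup.pow_mem _ hN _) x).1 hx
  let φ : (S : Subgroup G) →* (S : Subgroup G) :=
    { toFun := fun x => ⟨t * x.1 * t⁻¹, hnorm x.1 x.2⟩
      map_one' := Subtype.ext (by simp)
      map_mul' := fun x y => Subtype.ext (by simp [mul_assoc]) }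
  have hfpf : MonoidHom.FixedPointFree φ := by
    intro x hx
    by_contra hx1
    have hxp := D.orderOf_of_mem S x.2 (fun h => hx1 (Subtype.ext h))
    have := orderOf_dvd_of_pow_eq_one (D.pow_eq_one_of_commute hxp
      (mul_inv_eq_iff_eq_mul.1 (congrArg Subtype.val hx) : t * x.1 = x.1 * t))
    rw [ht2] at this
    exact D.ne_two ((Nat.prime_dvd_prime_iff_eq Nat.prime_two D.prime).1 this).symm
  have hinv : Function.Involutive φ := fun x => Subtype.ext (by
    show t * (t * x.1 * t⁻¹) * t⁻¹ = x.1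
    rw [htinv, ← mul_assoc, ← mul_assoc, htt, one_mul, mul_assoc, htt, mul_one])
  intro x hx y hy
  exact congrArg Subtype.val (hfpf.commute_all_of_involutive hinv ⟨x, hx⟩ ⟨y, hy⟩).eq

theorem centralizer_eq (D : Data G p a q) [Fact p.Prime] (S : Sylow p G) {u : G}
    (hu : u ∈ (S : Subgroup G)) (h1 : u ≠ 1) : (S : Subgroup G) = Subgroup.centralizer ({u} : Set G) := by
  refine Subgroup.eq_of_le_of_card_ge (fun x hx => mem_centralizer_iff'.2 ?_) ?_
  · exact D.sylow_comm S x hx u hu
  · rw [(D.class_facts (D.orderOf_of_mem S hu h1)).1]; exact (D.card_sylow' S).ge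

theorem sylow_eq_of_mem (D : Data G p a q) [Fact p.Prime] {S S' : Sylow p G} {u : G}
    (h : u ∈ (S : Subgroup G)) (h' : u ∈ (S' : Subgroup G)) (h1 : u ≠ 1) : S = S' :=
  Sylow.ext ((D.centralizer_eq S h h1).trans (D.centralizer_eq S' h' h1).symm)

theorem card_sylows (D : Data G p a q) [Fact p.Prime] : Nat.card (Sylow p G) = q + 1 := by
  classical
  let f : (Σ S : Sylow p G, {x : (S : Subgroup G) // x ≠ 1}) → {x : G // orderOf x = p} :=
    fun z => ⟨z.2.1.1, D.orderOf_of_mem z.1 z.2.1.2 (fun h => z.2.2 (Subtype.ext h))⟩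
  have hf : Function.Bijective f := by
    constructor
    · rintro ⟨S, ⟨x, hx⟩, hx1⟩ ⟨S', ⟨y, hy⟩, hy1⟩ h
      obtain rfl : x = y := congrArg Subtype.val h
      obtain rfl := D.sylow_eq_of_mem hx hy (fun h => hx1 (Subtype.ext h))
      rfl
    · rintro ⟨x, hx⟩
      have hp : IsPGroup p (Subgroup.zpowers x) := IsPGroup.of_card (n := 1) (by
        rw [Nat.card_zpowers, hx, pow_one])
      obtain ⟨S, hS⟩ := hp.exists_le_sylow
      exact ⟨⟨S, ⟨⟨x, hS (Subgroup.mem_zpowers x)⟩, fun h => by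
        rw [show x = 1 from congrArg Subtype.val h, orderOf_one] at hx
        exact D.prime.ne_one hx.symm⟩⟩, rfl⟩
  have := Fintype.ofFinite (Sylow p G)
  have hc := Nat.card_eq_of_bijective f hf
  rw [Nat.card_sigma] at hc
  have hone : ∀ S : Sylow p G, Nat.card {x : (S : Subgroup G) // x ≠ 1} = q - 1 := by
    intro S
    have := Fintype.ofFinite (S : Subgroup G)
    rw [Nat.card_eq_fintype_card, Fintype.card_subtype_compl, Fintype.card_subtype_eq,
      ← Nat.card_eq_fintype_card, D.card_sylow' S]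
  rw [Finset.sum_congr rfl (fun S _ => hone S), Finset.sum_const, smul_eq_mul, Finset.card_univ,
    ← Nat.card_eq_fintype_card] at hc
  have hq := D.q_gt
  refine Nat.eq_of_mul_eq_mul_right (show 0 < q - 1 by omega) (hc.trans (D.char.trans ?_))
  simpa using Nat.sq_sub_sq q 1

theorem exists_ne_one_of_card {S : Subgroup G} (h : 1 < Nat.card S) : ∃ u ∈ S, u ≠ 1 := by
  have : Nontrivial S := Finite.one_lt_card_iff_nontrivial.1 h
  obtain ⟨u, hu⟩ := exists_ne (1 : S)
  exact ⟨u, u.2, fun h => hu (Subtype.ext h)⟩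

/-- `G` is `PGL₂` of a field with `q` elements. -/
theorem exists_pgl (D : Data G p a q) :
    ∃ (K : Type) (_ : Field K) (_ : Fintype K), Fintype.card K = q ∧
      Nonempty (G ≃* Matrix.ProjGenLinGroup (Fin 2) K) := by
  classical
  have : Fact p.Prime := ⟨D.prime⟩
  have : Fintype G := Fintype.ofFinite G
  have : Fintype (Sylow p G) := Fintype.ofFinite _
  have hq := D.q_gt
  have hn : Fintype.card (Sylow p G) = q + 1 := by rw [← Nat.card_eq_fintype_card, D.card_sylows]
  have hqodd : Odd q := D.q_eq ▸ (D.prime.odd_of_ne_two D.ne_two).pow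
  have hTle : ∀ S : Sylow p G, (S : Subgroup G) ≤ stabilizer G S := by
    intro S x hx
    rw [Sylow.stabilizer_eq_normalizer]
    exact Subgroup.le_normalizer hx
  have hfix : ∀ (S S' : Sylow p G) (u : G), u ∈ (S : Subgroup G) → u • S' = S' → S' ≠ S → u = 1 := by
    intro S S' u hu hfix hne
    by_contra h1
    have hmem : u ∈ (S : Subgroup G) ⊓ Subgroup.normalizer (S' : Set G) :=
      Subgroup.mem_inf.2 ⟨hu, by rw [← Sylow.stabilizer_eq_normalizer]; exact hfix⟩
    rw [S.isPGroup'.inf_normalizer_sylow S'] at hmem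
    exact hne (D.sylow_eq_of_mem (Subgroup.mem_inf.1 hmem).2 hu h1)
  have hconj : ∀ (g : G) (S : Sylow p G) (t : G), g • S = S → t ∈ (S : Subgroup G) →
      g * t * g⁻¹ ∈ (S : Subgroup G) := by
    intro g S t hg ht
    have : g ∈ Subgroup.normalizer (S : Set G) := by
      rw [← Sylow.stabilizer_eq_normalizer]; exact hg
    exact (Subgroup.mem_normalizer_iff.1 this t).1 ht
  have hreg : ∀ (S y z : Sylow p G), y ≠ S → z ≠ S → ∃! u : ↥(S : Subgroup G), (u : G) • y = z := by
    intro S y z hy hz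
    let f : ↥(S : Subgroup G) → {x : Sylow p G // x ≠ S} := fun u => ⟨(u : G) • y, fun h =>
      hy (smul_left_cancel (u : G) (h.trans (mem_stabilizer_iff.1 (hTle S u.2)).symm))⟩
    have hf : Function.Injective f := by
      intro u v h
      have h' : (u : G) • y = (v : G) • y := congrArg Subtype.val h
      have := hfix S y ((v : G)⁻¹ * u) (mul_mem (inv_mem v.2) u.2)
        (by rw [mul_smul, h', inv_smul_smul]) hy
      exact Subtype.ext (inv_mul_eq_one.1 this).symm
    obtain ⟨u, hu⟩ := ((Nat.bijective_iff_injective_and_card f).2 ⟨hf, by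
      rw [D.card_sylow' S, Nat.card_eq_fintype_card, Fintype.card_subtype_compl,
        Fintype.card_subtype_eq, hn]
      omega⟩).2 ⟨z, hz⟩
    exact ⟨u, congrArg Subtype.val hu, fun v hv => hf (Subtype.ext (hv.trans (congrArg Subtype.val hu).symm))⟩
  have hK : ∀ S : Sylow p G, IsKernel (S : Subgroup G) S := fun S =>
    ⟨hTle S, fun g hg t ht => hconj g S t hg ht, D.sylow_comm S, hreg S⟩
  have h2 : IsMultiplyPretransitive G (Sylow p G) 2 := by
    rw [is_two_pretransitive_iff]
    intro x y u v hxy huv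
    obtain ⟨g, hg⟩ := MulAction.exists_smul_eq G x u
    obtain ⟨t, ht, -⟩ := hreg u (g • y) v
      (fun h => hxy (smul_left_cancel g (hg.trans h.symm))) huv.symm
    exact ⟨(t : G) * g, by rw [mul_smul, hg, mem_stabilizer_iff.1 (hTle u t.2)], by rw [mul_smul, ht]⟩
  have h3 : FixAtMostTwo G (Sylow p G) := by
    intro h S S' S'' h1 h12 h13 hS hS' hS''
    obtain ⟨t, ht, htu⟩ := hreg S S' S'' h1.symm h13.symm
    have hc : h * (t : G) * h⁻¹ = t := by
      have := htu ⟨h * t * h⁻¹, hconj h S t hS t.2⟩ (by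
        show (h * (t : G) * h⁻¹) • S' = S''
        rw [mul_smul, mul_smul, inv_smul_eq_iff.2 hS'.symm, ht, hS''])
      exact congrArg Subtype.val this
    have ht1 : (t : G) ≠ 1 := fun h => h12 (by rw [← ht, h, one_smul])
    have hh : h ∈ (S : Subgroup G) := by
      rw [D.centralizer_eq S t.2 ht1]
      exact mem_centralizer_iff'.2 (mul_inv_eq_iff_eq_mul.1 hc)
    exact hfix S S' h hh hS' h1.symm
  obtain ⟨P, o, e, hPo, hPe, hoe⟩ := Fintype.two_lt_card_iff.1 (show 2 < Fintype.card (Sylow p G) by omega)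
  have : FaithfulSMul G (Sylow p G) := ⟨fun {g g'} h => by
    have := h3 (g'⁻¹ * g) P o e hPo hoe hPe (by rw [mul_smul, h, inv_smul_smul])
      (by rw [mul_smul, h, inv_smul_smul]) (by rw [mul_smul, h, inv_smul_smul])
    exact (inv_mul_eq_one.1 this).symm⟩
  -- two-point stabilisers
  have hH : ∀ x y : Sylow p G, x ≠ y → Nat.card ↥(stabilizer G x ⊓ stabilizer G y) = q - 1 := by
    intro x y hxy
    let f : ↥(x : Subgroup G) × ↥(stabilizer G x ⊓ stabilizer G y) → stabilizer G x := fun z =>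
      ⟨(z.1 : G) * (z.2 : G), mul_mem (hTle x z.1.2) (Subgroup.mem_inf.1 z.2.2).1⟩
    have hf : Function.Bijective f := by
      constructor
      · rintro ⟨t, h⟩ ⟨t', h'⟩ heq
        have he : (t : G) * (h : G) = t' * h' := congrArg Subtype.val heq
        have hy := congrArg (· • y) he
        simp only [mul_smul, mem_stabilizer_iff.1 (Subgroup.mem_inf.1 h.2).2,
          mem_stabilizer_iff.1 (Subgroup.mem_inf.1 h'.2).2] at hy
        obtain rfl := (hK x).eq_of_smul_eq hxy.symm hy
        exact Prod.ext rfl (Subtype.ext (mul_left_cancel he))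
      · rintro ⟨g, hg⟩
        have hgy : g • y ≠ x := fun h => hxy (smul_left_cancel g (hg.trans h.symm))
        obtain ⟨t, ht, -⟩ := hreg x y (g • y) hxy.symm hgy
        exact ⟨(t, ⟨(t : G)⁻¹ * g, Subgroup.mem_inf.2
          ⟨mul_mem (inv_mem (hTle x t.2)) hg, by rw [mem_stabilizer_iff, mul_smul, ← ht, inv_smul_smul]⟩⟩),
          Subtype.ext (mul_inv_cancel_left _ _)⟩
    have h1 := Nat.card_eq_of_bijective f hf
    rw [Nat.card_prod, D.card_sylow' x] at h1
    have h2 := (stabilizer G x).index_mul_card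
    rw [index_stabilizer_of_transitive, D.card_sylows, D.card_eq, ← h1,
      show q ^ 2 - 1 = (q + 1) * (q - 1) by simpa using Nat.sq_sub_sq q 1] at h2
    refine Nat.eq_of_mul_eq_mul_left (show 0 < (q + 1) * q by positivity) ?_
    linarith
  have hinvol : ∀ x y : Sylow p G, x ≠ y →
      (Finset.univ.filter fun t : G => orderOf t = 2 ∧ t • x = x ∧ t • y = y).card = 1 := by
    intro x y hxy
    have hinv : ∀ t : G, orderOf t = 2 → t • x = x → t • y = y →
        ∀ u ∈ (x : Subgroup G), t * u * t⁻¹ = u⁻¹ := by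
      intro t ht htx hty u hu
      let φ : ↥(x : Subgroup G) →* ↥(x : Subgroup G) :=
        { toFun := fun w => ⟨t * w.1 * t⁻¹, hconj t x _ htx w.2⟩
          map_one' := Subtype.ext (by simp)
          map_mul' := fun a b => Subtype.ext (by simp [mul_assoc]) }
      have hfpf : MonoidHom.FixedPointFree φ := by
        intro w hw
        by_contra hw1
        have hwp := D.orderOf_of_mem x w.2 (fun h => hw1 (Subtype.ext h))
        have := orderOf_dvd_of_pow_eq_one (D.pow_eq_one_of_commute hwp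
          (mul_inv_eq_iff_eq_mul.1 (congrArg Subtype.val hw) : t * w.1 = w.1 * t))
        rw [ht] at this
        exact D.ne_two ((Nat.prime_dvd_prime_iff_eq Nat.prime_two D.prime).1 this).symm
      have htt := mul_self_of_orderOf ht
      have hi : Function.Involutive φ := fun w => Subtype.ext (by
        show t * (t * w.1 * t⁻¹) * t⁻¹ = w.1
        rw [inv_eq_of_mul_eq_one_left htt, ← mul_assoc, ← mul_assoc, htt, one_mul, mul_assoc, htt,
          mul_one])
      exact congrArg Subtype.val (congrFun (hfpf.coe_eq_inv_of_involutive hi) ⟨u, hu⟩)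
    obtain ⟨t, ht⟩ := exists_prime_orderOf_dvd_card' (G := ↥(stabilizer G x ⊓ stabilizer G y)) 2
      (by rw [hH x y hxy]; obtain ⟨k, hk⟩ := hqodd; omega)
    have ht' : orderOf (t : G) = 2 := by rw [Subgroup.orderOf_coe, ht]
    refine Finset.card_eq_one.2 ⟨t, Finset.eq_singleton_iff_unique_mem.2
      ⟨by simp [ht', mem_stabilizer_iff.1 (Subgroup.mem_inf.1 t.2).1,
        mem_stabilizer_iff.1 (Subgroup.mem_inf.1 t.2).2], fun s hs => ?_⟩⟩
    simp only [Finset.mem_filter, Finset.mem_univ, true_and] at hs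
    obtain ⟨u, hu, hu1⟩ := exists_ne_one_of_card (S := (x : Subgroup G)) (by rw [D.card_sylow' x]; omega)
    have e1 := hinv t ht' (Subgroup.mem_inf.1 t.2).1 (Subgroup.mem_inf.1 t.2).2 u hu
    have e2 := hinv s hs.1 hs.2.1 hs.2.2 u hu
    have hc : (t : G)⁻¹ * s ∈ (x : Subgroup G) := by
      rw [D.centralizer_eq x hu hu1, mem_centralizer_iff', commute_iff_eq]
      have e3 : (t : G) * u * (t : G)⁻¹ = s * u * s⁻¹ := e1.trans e2.symm
      calc (t : G)⁻¹ * s * u = (t : G)⁻¹ * (s * u * s⁻¹) * s := by group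
        _ = (t : G)⁻¹ * ((t : G) * u * (t : G)⁻¹) * s := by rw [e3]
        _ = u * ((t : G)⁻¹ * s) := by group
    have := hfix x y _ hc (by
      rw [mul_smul, hs.2.2, inv_smul_eq_iff]
      exact (mem_stabilizer_iff.1 (Subgroup.mem_inf.1 t.2).2).symm) hxy.symm
    exact (inv_mul_eq_one.1 this).symm
  -- every element swapping two points is an involution
  set I : Finset G := Finset.univ.filter fun t => orderOf t = 2 with hI
  have hIcard : I.card = q ^ 2 := by
    rw [hI, ← Fintype.card_subtype, ← Nat.card_eq_fintype_card]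
    exact D.two
  set P2 : Finset (Sylow p G × Sylow p G) := Finset.univ.offDiag with hP2
  have hP2card : P2.card = (q + 1) * q := by
    simp [hP2, Finset.offDiag_card, hn, Nat.mul_add]
  have hA := Finset.sum_card_bipartiteAbove_eq_sum_card_bipartiteBelow (s := I) (t := P2)
    (fun t z => t • z.1 = z.1 ∧ t • z.2 = z.2)
  have hA2 : ∀ z ∈ P2, (I.bipartiteBelow (fun t z => t • z.1 = z.1 ∧ t • z.2 = z.2) z).card = 1 := by
    intro z hz
    rw [Finset.bipartiteBelow, hI, Finset.filter_filter]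
    exact hinvol z.1 z.2 (by simpa [hP2] using hz)
  let fx : G → ℕ := fun t => (Finset.univ.filter fun x : Sylow p G => t • x = x).card
  have hfx : ∀ t ∈ I, fx t * fx t - fx t = fx t ∧ fx t ≤ 2 := by
    intro t ht
    have ht' : orderOf t = 2 := (Finset.mem_filter.1 ht).2
    have e : Nat.card (fixedBy (Sylow p G) t) = fx t := by
      rw [Nat.card_eq_fintype_card]
      exact Fintype.card_of_subtype _ fun x => by simp
    have hle := card_fixedBy_le_two (Ω := Sylow p G) h3 (g := t) (fun h => by simp [h] at ht')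
    have hmod := card_fixedBy_mod_two (Ω := Sylow p G) (mul_self_of_orderOf ht')
    rw [e] at hle hmod
    rw [hn] at hmod
    have : fx t % 2 = 0 := by
      obtain ⟨k, hk⟩ := hqodd
      omega
    rcases (show fx t = 0 ∨ fx t = 2 by omega) with h | h <;> simp [h]
  have hA1 : ∀ t ∈ I, (P2.bipartiteAbove (fun t z => t • z.1 = z.1 ∧ t • z.2 = z.2) t).card = fx t := by
    intro t ht
    rw [Finset.bipartiteAbove, show P2.filter (fun z => t • z.1 = z.1 ∧ t • z.2 = z.2) =
      (Finset.univ.filter fun x : Sylow p G => t • x = x).offDiag by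
        ext ⟨x, y⟩; simp [hP2]; tauto, Finset.offDiag_card]
    exact (hfx t ht).1
  rw [Finset.sum_congr rfl hA1, Finset.sum_congr rfl hA2, Finset.sum_const, smul_eq_mul, mul_one,
    hP2card] at hA
  have hB := Finset.sum_card_bipartiteAbove_eq_sum_card_bipartiteBelow (s := I) (t := P2)
    (fun t z => t • z.1 = z.2 ∧ t • z.2 = z.1)
  have hB1 : ∀ t ∈ I, (P2.bipartiteAbove (fun t z => t • z.1 = z.2 ∧ t • z.2 = z.1) t).card + fx t =
      q + 1 := by
    intro t ht
    have htt := mul_self_of_orderOf (Finset.mem_filter.1 ht).2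
    rw [Finset.bipartiteAbove, show P2.filter (fun z => t • z.1 = z.2 ∧ t • z.2 = z.1) =
      (Finset.univ.filter fun x : Sylow p G => ¬ t • x = x).image (fun x => (x, t • x)) by
        ext ⟨x, y⟩
        simp only [hP2, Finset.mem_filter, Finset.mem_offDiag, Finset.mem_univ, true_and,
          Finset.mem_image, Prod.mk.injEq]
        constructor
        · rintro ⟨hxy, h1, -⟩
          exact ⟨x, fun h => hxy (h.symm.trans h1), rfl, h1⟩
        · rintro ⟨w, hw, rfl, rfl⟩
          exact ⟨fun h => hw h.symm, rfl, by rw [← mul_smul, htt, one_smul]⟩]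
    rw [Finset.card_image_of_injective _ fun x y h => congrArg Prod.fst h, add_comm, ← hn]
    exact Finset.card_filter_add_card_filter_not (fun x : Sylow p G => t • x = x)
  have hWle : ∀ z ∈ P2, (Finset.univ.filter fun g : G => g • z.1 = z.2 ∧ g • z.2 = z.1).card = q - 1 := by
    intro z hz
    have hne : z.1 ≠ z.2 := by simpa [hP2] using hz
    obtain ⟨s, hs1, hs2⟩ := exists_smul_pair h2 hne hne.symm
    rw [← hH z.1 z.2 hne, ← Fintype.card_subtype, ← Nat.card_eq_fintype_card]
    refine Nat.card_congr ((Equiv.mulLeft s⁻¹).subtypeEquiv fun g => ?_)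
    simp only [Equiv.coe_mulLeft, Subgroup.mem_inf, mem_stabilizer_iff, mul_smul]
    rw [inv_smul_eq_iff, inv_smul_eq_iff, hs1, hs2]
  have hB2 : ∀ z ∈ P2, (I.bipartiteBelow (fun t z => t • z.1 = z.2 ∧ t • z.2 = z.1) z).card ≤ q - 1 := by
    intro z hz
    rw [← hWle z hz]
    exact Finset.card_le_card fun g hg => by
      simpa using (Finset.mem_filter.1 hg).2
  have hsumB : ∑ z ∈ P2, (I.bipartiteBelow (fun t z => t • z.1 = z.2 ∧ t • z.2 = z.1) z).card =
      ∑ z ∈ P2, (q - 1) := by
    rw [← hB, Finset.sum_const, smul_eq_mul, hP2card]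
    have h' := Finset.sum_congr rfl hB1
    rw [Finset.sum_add_distrib, hA, Finset.sum_const, smul_eq_mul, hIcard] at h'
    obtain ⟨r, rfl⟩ : ∃ r, q = r + 1 := ⟨q - 1, by omega⟩
    simp only [Nat.add_sub_cancel]
    linarith
  have hswap : ∀ x y : Sylow p G, x ≠ y → ∀ g : G, g • x = y → g • y = x → g * g = 1 := by
    intro x y hxy g hgx hgy
    have hz : (x, y) ∈ P2 := by simp [hP2, hxy]
    have heq := (Finset.sum_eq_sum_iff_of_le hB2).1 hsumB (x, y) hz
    rw [← hWle (x, y) hz] at heq
    have := Finset.eq_of_subset_of_card_le (fun t ht => by simpa using (Finset.mem_filter.1 ht).2)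
      heq.ge
    have hg : g ∈ I.bipartiteBelow (fun t z => t • z.1 = z.2 ∧ t • z.2 = z.1) (x, y) := by
      rw [this]; simp [hgx, hgy]
    exact mul_self_of_orderOf (Finset.mem_filter.1 (Finset.mem_filter.1 hg).1).2
  -- the swap
  obtain ⟨s₀, hs1, hs2⟩ := exists_smul_pair h2 hPo hPo.symm
  have hHinv : ∀ s : G, s • P = o → s • o = P → ∀ h ∈ stabilizer G P ⊓ stabilizer G o,
      s * h * s⁻¹ = h⁻¹ := by
    intro s h1 h2 h hh
    have e1 := hswap P o hPo (s * h)
      (by rw [mul_smul, mem_stabilizer_iff.1 (Subgroup.mem_inf.1 hh).1, h1])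
      (by rw [mul_smul, mem_stabilizer_iff.1 (Subgroup.mem_inf.1 hh).2, h2])
    have e2 := hswap P o hPo s h1 h2
    rw [inv_eq_of_mul_eq_one_left e2]
    exact eq_inv_of_mul_eq_one_left (by rw [← e1]; group)
  have hcomm : ∀ g ∈ stabilizer G P ⊓ stabilizer G o, ∀ h ∈ stabilizer G P ⊓ stabilizer G o,
      g * h = h * g := by
    intro g hg h hh
    have e := hHinv s₀ hs1 hs2 (g * h) (mul_mem hg hh)
    have e' : s₀ * (g * h) * s₀⁻¹ = g⁻¹ * h⁻¹ := by
      rw [← hHinv s₀ hs1 hs2 g hg, ← hHinv s₀ hs1 hs2 h hh]; group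
    rw [e'] at e
    have := congrArg Inv.inv e
    simpa using this.symm
  have hHcard := hH P o hPo
  let f : ↥(stabilizer G P ⊓ stabilizer G o) → {x : Sylow p G // x ∉ ({P, o} : Finset (Sylow p G))} :=
    fun h => ⟨(h : G) • e, by
      simp only [Finset.mem_insert, Finset.mem_singleton, not_or]
      exact ⟨fun h' => hPe (smul_left_cancel (h : G)
        ((mem_stabilizer_iff.1 (Subgroup.mem_inf.1 h.2).1).trans h'.symm)),
        fun h' => hoe (smul_left_cancel (h : G)
        ((mem_stabilizer_iff.1 (Subgroup.mem_inf.1 h.2).2).trans h'.symm))⟩⟩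
  have hf : Function.Bijective f := by
    refine (Nat.bijective_iff_injective_and_card f).2 ⟨fun g h hgh => ?_, ?_⟩
    · have h' : (g : G) • e = (h : G) • e := congrArg Subtype.val hgh
      obtain ⟨a1, a2⟩ := Subgroup.mem_inf.1 (mul_mem (inv_mem h.2) g.2)
      exact Subtype.ext (inv_mul_eq_one.1 (h3 _ P o e hPo hoe hPe a1 a2
        (by rw [mul_smul, h', inv_smul_smul]))).symm
    · rw [hHcard, Nat.card_eq_fintype_card, Fintype.card_subtype_compl, Fintype.card_coe,
        Finset.card_pair hPo, hn]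
      omega
  have hs0e : s₀ • e ∉ ({P, o} : Finset (Sylow p G)) := by
    simp only [Finset.mem_insert, Finset.mem_singleton, not_or]
    exact ⟨fun h => hoe (smul_left_cancel s₀ (hs2.trans h.symm)),
      fun h => hPe (smul_left_cancel s₀ (hs1.trans h.symm))⟩
  obtain ⟨h, hh⟩ := hf.2 ⟨s₀ • e, hs0e⟩
  have hh' : (h : G) • e = s₀ • e := congrArg Subtype.val hh
  have hi := Subgroup.mem_inf.1 (inv_mem h.2)
  obtain ⟨K, iK, iF, hK', hiso⟩ := Cfsg.Agent.Lib.Perm.ZassenhausPGL.exists_mulEquiv_PGL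
    (s := (h : G)⁻¹ * s₀) h2 h3 (hK P) hPo.symm hPe.symm hoe.symm hcomm
    (by rw [hHcard, hn]; omega)
    (by rw [mul_smul, hs1, mem_stabilizer_iff.1 hi.2])
    (by rw [mul_smul, hs2, mem_stabilizer_iff.1 hi.1])
    (by rw [mul_smul, ← hh', inv_smul_smul])
    (fun g hg => hHinv _ (by rw [mul_smul, hs1, mem_stabilizer_iff.1 hi.2])
      (by rw [mul_smul, hs2, mem_stabilizer_iff.1 hi.1]) (g * g) (mul_mem hg hg))
  exact ⟨K, iK, iF, by omega, hiso⟩

end Data

end Cfsg.Agent.Lib.NsePGL94
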